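import Mathlib
import Cfsg.Agent.Lib.Char.Counting
import Cfsg.Agent.Lib.Char.Central

/-!
The Frobenius–Schur count of square roots of the identity, and twisting by linear characters.
-/

namespace CfsgLib.FSCount

open Cfsg CfsgLib.Char
open scoped ComplexConjugate CfsgLib.Char

set_option linter.style.haveILetI false

variable {G : Type*} [Group G]

/-- The action of a representation on square matrices by congruence. -/
noncomputable def congr {n : ℕ} (ρ : Representation ℂ G (Fin n → ℂ)) :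
    Representation ℂ G (Matrix (Fin n) (Fin n) ℂ) where
  toFun g :=
    { toFun := fun X => LinearMap.toMatrix' (ρ g) * X * (LinearMap.toMatrix' (ρ g)).transpose
      map_add' := fun X Y => by rw [Matrix.mul_add, Matrix.add_mul]
      map_smul' := fun c X => by simp }
  map_one' := by
    ext1 X
    show LinearMap.toMatrix' (ρ 1) * X * (LinearMap.toMatrix' (ρ 1)).transpose = X
    simp
  map_mul' g h := by
    ext1 X
    show LinearMap.toMatrix' (ρ (g * h)) * X * (LinearMap.toMatrix' (ρ (g * h))).transpose =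
      LinearMap.toMatrix' (ρ g) * (LinearMap.toMatrix' (ρ h) * X * (LinearMap.toMatrix' (ρ h)).transpose) *
        (LinearMap.toMatrix' (ρ g)).transpose
    rw [map_mul, Module.End.mul_eq_comp, LinearMap.toMatrix'_comp, Matrix.transpose_mul]
    simp only [Matrix.mul_assoc]

/-- Transposition as a linear map. -/
noncomputable def flipMap (n : ℕ) : Module.End ℂ (Matrix (Fin n) (Fin n) ℂ) :=
  (Matrix.transposeLinearEquiv (Fin n) (Fin n) ℂ ℂ).toLinearMap

theorem trace_flip_congr {n : ℕ} (ρ : Representation ℂ G (Fin n → ℂ)) (g : G) :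
    LinearMap.trace ℂ _ (flipMap n * congr ρ g) = ρ.character (g * g) := by
  classical
  set A := LinearMap.toMatrix' (ρ g) with hA
  have h2 : ρ.character (g * g) = ∑ i, ∑ j, A i j * A j i := by
    show LinearMap.trace ℂ _ (ρ (g * g)) = _
    rw [map_mul, LinearMap.trace_eq_matrix_trace ℂ (Pi.basisFun ℂ (Fin n)), LinearMap.toMatrix_mul,
      LinearMap.toMatrix_eq_toMatrix']
    simp [Matrix.trace, Matrix.mul_apply, hA]
  rw [h2, LinearMap.trace_eq_matrix_trace ℂ (Matrix.stdBasis ℂ (Fin n) (Fin n))]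
  simp only [Matrix.trace, Matrix.diag_apply, LinearMap.toMatrix_apply]
  rw [Fintype.sum_prod_type]
  refine Finset.sum_congr rfl fun i _ => Finset.sum_congr rfl fun j _ => ?_
  rw [Matrix.stdBasis_eq_single]
  show (A * Matrix.single i j (1 : ℂ) * A.transpose).transpose i j = _
  simp [Matrix.mul_apply, Matrix.single, Matrix.transpose_apply, mul_comm, ite_and]

/-- The Frobenius–Schur indicator of a character is an integer. -/
theorem exists_int_indicator [Fintype G] {χ : G → ℂ} (hχ : IsCharacter G χ) :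
    ∃ z : ℤ, (Nat.card G : ℂ)⁻¹ * ∑ g : G, χ (g * g) = z := by
  obtain ⟨n, ρ, rfl⟩ := hχ
  set σ := congr ρ
  set τ := flipMap n
  set P : Module.End ℂ (Matrix (Fin n) (Fin n) ℂ) := (Nat.card G : ℂ)⁻¹ • ∑ g : G, σ g with hP
  have hτσ : ∀ g, τ * σ g = σ g * τ := by
    intro g
    ext1 X
    show (LinearMap.toMatrix' (ρ g) * X * (LinearMap.toMatrix' (ρ g)).transpose).transpose =
      LinearMap.toMatrix' (ρ g) * X.transpose * (LinearMap.toMatrix' (ρ g)).transpose
    simp [Matrix.transpose_mul, Matrix.mul_assoc]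
  have hττ : τ * τ = 1 := by ext1 X; rfl
  have hn : (Nat.card G : ℂ) ≠ 0 := by exact_mod_cast Nat.card_pos.ne'
  have hσP : ∀ g, σ g * P = P := by
    intro g
    rw [hP, mul_smul_comm, Finset.mul_sum]
    congr 1
    rw [← Equiv.sum_comp (Equiv.mulLeft g) (fun h => σ h)]
    exact Finset.sum_congr rfl fun h _ => (map_mul σ g h).symm
  have hPP : P * P = P := by
    conv_lhs => arg 1; rw [hP]
    rw [smul_mul_assoc, Finset.sum_mul, Finset.sum_congr rfl fun g _ => hσP g, Finset.sum_const,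
      Finset.card_univ, ← Nat.card_eq_fintype_card, ← Nat.cast_smul_eq_nsmul ℂ, smul_smul,
      inv_mul_cancel₀ hn, one_smul]
  have hτP : τ * P = P * τ := by
    rw [hP, mul_smul_comm, smul_mul_assoc, Finset.mul_sum, Finset.sum_mul]
    congr 1
    exact Finset.sum_congr rfl fun g _ => hτσ g
  set Q : Module.End ℂ (Matrix (Fin n) (Fin n) ℂ) := (2 : ℂ)⁻¹ • (P + τ * P)
  have hQQ : Q * Q = Q := by
    have e1 : P * (τ * P) = τ * P := by rw [← mul_assoc, ← hτP, mul_assoc, hPP]
    have e2 : (τ * P) * P = τ * P := by rw [mul_assoc, hPP]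
    have e3 : (τ * P) * (τ * P) = P := by
      rw [mul_assoc, e1, ← mul_assoc, hττ, one_mul]
    show ((2 : ℂ)⁻¹ • (P + τ * P)) * ((2 : ℂ)⁻¹ • (P + τ * P)) = _
    rw [smul_mul_assoc, mul_smul_comm, smul_smul, add_mul, mul_add, mul_add, hPP, e1, e2, e3]
    module
  have hproj : ∀ R : Module.End ℂ (Matrix (Fin n) (Fin n) ℂ), R * R = R →
      ∃ m : ℕ, LinearMap.trace ℂ _ R = m := fun R hR =>
    ⟨_, (LinearMap.isProj_range_iff_isIdempotentElem R).mpr hR |>.trace⟩
  obtain ⟨a, ha⟩ := hproj P hPP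
  obtain ⟨b, hb⟩ := hproj Q hQQ
  refine ⟨2 * (b : ℤ) - a, ?_⟩
  have htr : LinearMap.trace ℂ _ (τ * P) = (Nat.card G : ℂ)⁻¹ * ∑ g : G, ρ.character (g * g) := by
    rw [hP, mul_smul_comm, map_smul, Finset.mul_sum, map_sum, smul_eq_mul]
    congr 1
    exact Finset.sum_congr rfl fun g _ => trace_flip_congr ρ g
  rw [← htr]
  have : τ * P = (2 : ℂ) • Q - P := by
    show _ = (2 : ℂ) • ((2 : ℂ)⁻¹ • (P + τ * P)) - P
    rw [smul_smul, mul_inv_cancel₀ two_ne_zero, one_smul, add_sub_cancel_left]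
  rw [this, map_sub, map_smul, ha, hb, smul_eq_mul]
  push_cast
  ring

/-- The Frobenius–Schur count. -/
theorem card_sqrt_one [Fintype G] :
    (Nat.card {x : G // x ^ 2 = 1} : ℂ) = ∑ χ : IrrCharacter G,
      ((Nat.card G : ℂ)⁻¹ * ∑ g : G, (χ : G → ℂ) (g * g)) * (χ : G → ℂ) 1 := by
  classical
  have hn : (Nat.card G : ℂ) ≠ 0 := by exact_mod_cast Nat.card_pos.ne'
  have h1 : ∀ g : G, ∑ χ : IrrCharacter G, (χ : G → ℂ) (g * g) * (χ : G → ℂ) 1 =
      if g ^ 2 = 1 then (Nat.card G : ℂ) else 0 := by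
    intro g
    rw [Finset.sum_congr rfl fun χ _ => mul_comm _ _, sum_degree_mul_irr, ← sq]
  simp only [mul_assoc, Finset.sum_mul, Finset.mul_sum]
  rw [Finset.sum_comm]
  simp only [← Finset.mul_sum, h1]
  rw [Finset.sum_ite, Finset.sum_const_zero, add_zero, Finset.sum_const,
    nsmul_eq_mul, mul_comm, mul_inv_cancel_right₀ hn, Nat.card_eq_fintype_card, Fintype.card_subtype]

/-- A twist of an irreducible character by a homomorphism to `±1`. -/
theorem isIrrCharacter_twist [Fintype G] (f : G →* ℂˣ) (hf : f ^ 2 = 1) {χ : G → ℂ}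
    (hχ : IsIrrCharacter G χ) : IsIrrCharacter G ((fun g => (f g : ℂ)) * χ) := by
  refine isIrr_of_norm_one (isCharacter_mul (isCharacter_monoidHom f) (isCharacter_of_isIrr hχ)) ?_
  rw [← classInner_irr_self hχ]
  unfold classInner
  congr 1
  refine Finset.sum_congr rfl fun g _ => ?_
  have h1 : (f g : ℂ) * (f g : ℂ) = 1 := by
    rw [← Units.val_mul, ← sq, ← MonoidHom.pow_apply, hf, MonoidHom.one_apply, Units.val_one]
  have h2 : conj (f g : ℂ) = (f g : ℂ) := by
    rcases mul_self_eq_one_iff.mp h1 with h | h <;> simp [h]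
  simp only [Pi.mul_apply, map_mul, h2]
  linear_combination (χ g * conj (χ g)) * h1

/-- A group of twists fixing an irreducible character has order at most the square of the degree. -/
theorem card_fixing_le [Fintype G] (S : Subgroup (G →* ℂˣ)) [Finite S] (hS : ∀ f ∈ S, f ^ 2 = 1)
    {χ : G → ℂ} (hχ : IsIrrCharacter G χ) {n : ℕ} (hn : χ 1 = n)
    (hfix : ∀ f ∈ S, (fun g => (f g : ℂ)) * χ = χ) : Nat.card S ≤ n ^ 2 := by
  classical
  haveI := Fintype.ofFinite S
  obtain ⟨m, ρ, hρ, rfl⟩ := hχ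
  have hdeg : (Module.finrank ℂ (Fin m → ℂ) : ℝ) = n := by
    have := Representation.char_one ρ
    rw [this] at hn
    exact_mod_cast hn
  have hG : (0 : ℝ) < Nat.card G := by exact_mod_cast Nat.card_pos
  -- the sum over `S` at a point
  let c : G → ℝ := fun g => if ∀ f ∈ S, (f g : ℂ) = 1 then (Nat.card S : ℝ) else 0
  have hc : ∀ g, ∑ f : S, ((f : G →* ℂˣ) g : ℂ) = (c g : ℂ) := by
    intro g
    by_cases h : ∀ f ∈ S, (f g : ℂ) = 1
    · simp only [c, if_pos h]
      rw [Finset.sum_congr rfl fun (f : S) _ => h f f.2]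
      simp
    · simp only [c, if_neg h, Complex.ofReal_zero]
      push Not at h
      obtain ⟨μ, hμ, hμg⟩ := h
      set s := ∑ f : S, ((f : G →* ℂˣ) g : ℂ)
      have : (μ g : ℂ) * s = s := by
        rw [Finset.mul_sum]
        exact Fintype.sum_equiv (Equiv.mulLeft (⟨μ, hμ⟩ : S)) _ (fun f : S => ((f : G →* ℂˣ) g : ℂ))
          fun f => by simp
      exact (mul_left_eq_self₀.mp this).resolve_left hμg
  have hc0 : ∀ g, 0 ≤ c g := fun g => by simp only [c]; split <;> positivity
  -- the sum of `c` is the order of the group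
  have hsumc : (∑ g : G, (c g : ℂ)) = (Nat.card G : ℂ) := by
    simp only [← hc]
    rw [Finset.sum_comm, Finset.sum_eq_single (1 : S)]
    · simp [Nat.card_eq_fintype_card]
    · intro f _ hf
      obtain ⟨a, ha⟩ : ∃ a, (f : G →* ℂˣ) a ≠ 1 := by
        by_contra h
        push Not at h
        exact hf (Subtype.ext (MonoidHom.ext h))
      set s := ∑ g : G, ((f : G →* ℂˣ) g : ℂ)
      have : ((f : G →* ℂˣ) a : ℂ) * s = s := by
        rw [Finset.mul_sum]
        exact Fintype.sum_equiv (Equiv.mulLeft a) _ (fun g => ((f : G →* ℂˣ) g : ℂ))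
          fun g => by simp
      exact (mul_left_eq_self₀.mp this).resolve_left fun h => ha (Units.ext h)
    · simp
  -- the norm square sum is `|G|`
  have hnorm : (∑ g : G, ((‖ρ.character g‖ ^ 2 : ℝ) : ℂ)) = (Nat.card G : ℂ) := by
    have h := classInner_irr_self (show IsIrrCharacter G ρ.character from ⟨m, ρ, hρ, rfl⟩)
    unfold classInner at h
    rw [inv_mul_eq_one₀ (by exact_mod_cast Nat.card_pos.ne')] at h
    refine Eq.trans ?_ h.symm
    refine Finset.sum_congr rfl fun g _ => ?_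
    rw [Complex.mul_conj, Complex.normSq_eq_norm_sq]
  have hweight : (∑ g : G, ((c g * ‖ρ.character g‖ ^ 2 : ℝ) : ℂ)) = (Nat.card S : ℂ) * Nat.card G := by
    have : ∀ g, ((c g * ‖ρ.character g‖ ^ 2 : ℝ) : ℂ) =
        ∑ _f : S, ((‖ρ.character g‖ ^ 2 : ℝ) : ℂ) := by
      intro g
      rw [Complex.ofReal_mul, ← hc, Finset.sum_mul]
      refine Finset.sum_congr rfl fun f _ => ?_
      by_cases h0 : ρ.character g = 0
      · simp [h0]
      · have := congrFun (hfix f f.2) g
        simp only [Pi.mul_apply] at this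
        rw [(mul_eq_right₀ h0).mp this, one_mul]
    rw [Finset.sum_congr rfl fun g _ => this g, Finset.sum_comm, Finset.sum_congr rfl fun _ _ => hnorm,
      Finset.sum_const, Finset.card_univ, nsmul_eq_mul, Nat.card_eq_fintype_card (α := S)]
  have hle : ∑ g : G, c g * ‖ρ.character g‖ ^ 2 ≤ ∑ g : G, c g * (n : ℝ) ^ 2 := by
    refine Finset.sum_le_sum fun g _ => mul_le_mul_of_nonneg_left ?_ (hc0 g)
    have := norm_character_le ρ g
    rw [hdeg] at this
    exact pow_le_pow_left₀ (norm_nonneg _) this 2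
  have h1 : ∑ g : G, c g * ‖ρ.character g‖ ^ 2 = (Nat.card S : ℝ) * Nat.card G := by
    have h := hweight
    rw [← Complex.ofReal_sum] at h
    exact_mod_cast h
  have h2 : ∑ g : G, c g = (Nat.card G : ℝ) := by
    have h := hsumc
    rw [← Complex.ofReal_sum] at h
    exact_mod_cast h
  rw [h1, ← Finset.sum_mul, h2, mul_comm (Nat.card G : ℝ)] at hle
  exact_mod_cast le_of_mul_le_mul_right hle hG

end CfsgLib.FSCount
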